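import Groth.Agent.Lib.FgSupport6.Exists
import Groth.Agent.Lib.Nagata6.Modification
import Groth.Agent.Lib.BlowUp.IdealComap
import Groth.Agent.Lib.BlowUp.EffCartier
import Groth.Prelude.Def_BlowUp2

/-!
# Powers of ideal sheaves inside others; the exceptional ideal near a strict transform
-/

set_option backward.isDefEq.respectTransparency false

universe u

open CategoryTheory Limits AlgebraicGeometry TopologicalSpace

namespace GrothLib.BlowAdm8

/-- On a quasi-compact scheme a finite type ideal whose zero set contains that of `A` has a power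
inside `A`. -/
theorem exists_pow_le {X : Scheme.{u}} [CompactSpace X] (A B : X.IdealSheafData)
    (hB : BlowUp.IsFiniteTypeIdeal B) (h : (A.support : Set X) ⊆ B.support) :
    ∃ n : ℕ, n ≠ 0 ∧ B ^ n ≤ A := by
  classical
  let 𝒰 := X.affineCover.finiteSubcover
  let W : 𝒰.I₀ → X.affineOpens := fun i => ⟨(𝒰.f i).opensRange, isAffineOpen_opensRange _⟩
  have hW : ∀ i, ∃ n : ℕ, B.ideal (W i) ^ n ≤ A.ideal (W i) := fun i => by
    refine Ideal.exists_pow_le_of_le_radical_of_fg (fun b hb => ?_) (hB (W i))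
    have h1 : (W i).2.fromSpec ⁻¹' X.zeroLocus (U := (W i).1) (A.ideal (W i) : Set Γ(X, (W i).1)) ⊆
        (W i).2.fromSpec ⁻¹' X.zeroLocus (U := (W i).1) {b} := by
      intro p hp
      have hpW : (W i).2.fromSpec p ∈ (W i).1 :=
        SetLike.le_def.mp (W i).2.opensRange_fromSpec.le ⟨p, rfl⟩
      have h2 : (W i).2.fromSpec p ∈ (B.support : Set X) :=
        h ((Scheme.IdealSheafData.mem_support_iff_of_mem (U := W i) hpW).mpr hp)
      rw [SetLike.mem_coe, Scheme.IdealSheafData.mem_support_iff_of_mem (U := W i) hpW] at h2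
      exact Scheme.zeroLocus_mono _ (Set.singleton_subset_iff.mpr hb) h2
    rw [(W i).2.fromSpec_preimage_zeroLocus, (W i).2.fromSpec_preimage_zeroLocus] at h1
    rw [← PrimeSpectrum.vanishingIdeal_zeroLocus_eq_radical]
    exact (PrimeSpectrum.mem_vanishingIdeal _ _).mpr fun p hp => h1 hp rfl
  choose n hn using hW
  refine ⟨(Finset.univ.sup n) + 1, Nat.succ_ne_zero _, ?_⟩
  refine Scheme.IdealSheafData.le_of_iSup_eq_top W ?_ fun i => ?_
  · rw [eq_top_iff]
    intro x _
    exact TopologicalSpace.Opens.mem_iSup.mpr ⟨_, 𝒰.covers x⟩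
  · rw [Scheme.IdealSheafData.ideal_pow, Pi.pow_apply]
    exact (Ideal.pow_le_pow_right ((Finset.le_sup (Finset.mem_univ i)).trans (Nat.le_succ _))).trans (hn i)

/-- Near the closure of the preimage of a part of `V(J)` away from the centre of the blow-up in
`J + B`: the exceptional ideal is `(e)` with `e ∈ B`, and `J = e · T` with `T` vanishing at the
point. -/
theorem exists_chart {X X' : Scheme.{u}} (c : X' ⟶ X) (J B : X.IdealSheafData)
    (hb : BlowUp.IsEffCartierIdeal ((J ⊔ B).comap c)) (A : Set X) (hJ : A ⊆ J.support)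
    (hA : Disjoint A ((J ⊔ B).support : Set X)) (y : X') (hy : y ∈ closure (c ⁻¹' A)) :
    ∃ (D : X'.affineOpens) (_ : y ∈ D.1) (e : Γ(X', D.1)),
      ((J ⊔ B).comap c).ideal D = Ideal.span {e} ∧ e ∈ (B.comap c).ideal D ∧
      ∀ t, t * e ∈ (J.comap c).ideal D → y ∉ X'.basicOpen t := by
  obtain ⟨W, hyW, e, he, hW⟩ := hb y
  have hW' := hW
  rw [Scheme.IdealSheafData.comap_sup, Scheme.IdealSheafData.ideal_sup, Pi.sup_apply] at hW
  have hnot : ∀ (D : X'.affineOpens) (e : Γ(X', D.1)), ((J ⊔ B).comap c).ideal D = Ideal.span {e} →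
      ∀ t, t * e ∈ (J.comap c).ideal D → y ∉ X'.basicOpen t := by
    intro D e hD t ht hya
    obtain ⟨x, hxa, hxA⟩ := mem_closure_iff.mp hy _ (X'.basicOpen t).2 hya
    have hxD : x ∈ D.1 := X'.basicOpen_le t hxa
    have hsupp : x ∈ ((J.comap c).support : Set X') := by
      rw [Scheme.IdealSheafData.support_comap]; exact hJ hxA
    have hxe : x ∈ X'.basicOpen e := by
      by_contra hne
      refine Set.disjoint_left.mp hA hxA ?_
      have hx' : x ∈ (((J ⊔ B).comap c).support : Set X') := by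
        refine (Scheme.IdealSheafData.mem_support_iff_of_mem (U := D) hxD).mpr ?_
        rw [hD, Scheme.zeroLocus_span, Scheme.mem_zeroLocus_iff]
        rintro _ rfl
        exact hne
      rw [Scheme.IdealSheafData.support_comap] at hx'
      exact hx'
    refine (Scheme.mem_zeroLocus_iff _ _ _).mp
      ((Scheme.IdealSheafData.mem_support_iff_of_mem (U := D) hxD).mp hsupp) _ ht ?_
    rw [Scheme.basicOpen_mul]
    exact ⟨hxa, hxe⟩
  obtain ⟨a, ha, b, hb', hab⟩ := Submodule.mem_sup.mp (hW.ge (Ideal.mem_span_singleton_self e))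
  obtain ⟨a', rfl⟩ := Ideal.mem_span_singleton'.mp (hW.le (Submodule.mem_sup_left ha))
  obtain ⟨b', rfl⟩ := Ideal.mem_span_singleton'.mp (hW.le (Submodule.mem_sup_right hb'))
  have h1 : a' + b' = 1 := by
    refine (mem_nonZeroDivisors_iff_right.mp he (a' + b' - 1) ?_ |> sub_eq_zero.mp)
    rw [sub_mul, add_mul, one_mul, hab, sub_self]
  have hyb : y ∈ X'.basicOpen b' := by
    have hu : IsUnit (X'.presheaf.germ W.1 y hyW a') ∨ IsUnit (X'.presheaf.germ W.1 y hyW b') := by
      refine IsLocalRing.isUnit_or_isUnit_of_add_one ?_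
      rw [← map_add, h1, map_one]
    rcases hu with h | h
    · exact absurd ((X'.mem_basicOpen _ y hyW).mpr h) (hnot W e hW' a' ha)
    · exact (X'.mem_basicOpen _ y hyW).mpr h
  let r := (X'.presheaf.map (homOfLE (X'.basicOpen_le b')).op).hom
  have hunit : IsUnit (r b') := X'.toRingedSpace.isUnit_res_basicOpen b'
  have hD : ((J ⊔ B).comap c).ideal (X'.affineBasicOpen b') = Ideal.span {r e} := by
    rw [← ((J ⊔ B).comap c).map_ideal_basicOpen W b', hW', Ideal.map_span, Set.image_singleton]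
  refine ⟨X'.affineBasicOpen b', hyb, r e, hD, ?_, hnot _ _ hD⟩
  rw [← (B.comap c).map_ideal_basicOpen W b']
  obtain ⟨u, hu⟩ := hunit
  have := Ideal.mem_map_of_mem r hb'
  rw [map_mul, ← hu] at this
  simpa using Ideal.mul_mem_left _ (↑u⁻¹) this

end GrothLib.BlowAdm8
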