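import Groth.Agent.Lib.BlowUp.IdealComap
import Groth.Agent.Lib.BlowUp.EffCartier
import Mathlib.AlgebraicGeometry.IdealSheaf.Functorial
import Groth.Prelude.Def_BlowUp2

/-!
# The exceptional ideal on a strict transform
-/

set_option backward.isDefEq.respectTransparency false

universe u

open CategoryTheory Limits AlgebraicGeometry TopologicalSpace

namespace GrothLib.BlowAdm8

/-- An effective Cartier ideal does not vanish on a nonempty affine open. -/
theorem false_of_ideal_eq_bot {T : Scheme.{u}} {E : T.IdealSheafData} (hE : BlowUp.IsEffCartierIdeal E)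
    (W : T.affineOpens) (y : T) (hy : y ∈ W.1) (h : E.ideal W = ⊥) : False := by
  obtain ⟨V, hyV, hVW, f, hf, hfE⟩ := GrothLib.BlowUp.exists_cartierOn_le hE hy
  rw [← E.map_ideal (U := V) (V := W) hVW, h, Ideal.map_bot, eq_comm, Ideal.span_singleton_eq_bot] at hfE
  subst hfE
  have h1 : (1 : Γ(T, V.1)) = 0 := mem_nonZeroDivisors_iff_right.mp hf 1 (by simp)
  have h2 := congrArg (T.presheaf.germ V.1 y hyV) h1
  rw [map_one, map_zero] at h2
  exact one_ne_zero h2

/-- A generator of an ideal whose inverse image is effective Cartier is not killed, even after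
multiplication by a function invertible at a point of the image. -/
theorem false_of_app_eq_zero {T X' : Scheme.{u}} (k : T ⟶ X') (E : X'.IdealSheafData)
    (hE : BlowUp.IsEffCartierIdeal (E.comap k)) (D : X'.affineOpens) (e t : Γ(X', D.1))
    (hDe : E.ideal D = Ideal.span {e}) (y : T) (hy : k y ∈ X'.basicOpen t)
    (h0 : k.app D.1 (t * e) = 0) : False := by
  obtain ⟨W, hyW, hWle⟩ := GrothLib.BlowUp.exists_affine_mem_le (W := k ⁻¹ᵁ X'.basicOpen t) (x := y) hy
  have hWD : W.1 ≤ k ⁻¹ᵁ D.1 := hWle.trans (k.preimage_mono (X'.basicOpen_le t))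
  refine false_of_ideal_eq_bot hE W y hyW ?_
  rw [GrothLib.BlowUp.ideal_comap_eq_map E k D W hWD, hDe, Ideal.map_span, Set.image_singleton,
    Ideal.span_singleton_eq_bot]
  have hu : IsUnit (k.appLE D.1 W.1 hWD t) := by
    rw [Scheme.Hom.appLE, CategoryTheory.comp_apply]
    have h1 : W.1 ≤ T.basicOpen (k.app D.1 t) := hWle.trans (k.preimage_basicOpen t).le
    have h2 := (T.toRingedSpace.isUnit_res_basicOpen (k.app D.1 t)).map (T.presheaf.map (homOfLE h1).op).hom
    erw [← CategoryTheory.comp_apply, ← Functor.map_comp] at h2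
    exact h2
  have h3 : k.appLE D.1 W.1 hWD (t * e) = 0 := by
    rw [Scheme.Hom.appLE, CategoryTheory.comp_apply, h0, map_zero]
  rw [map_mul] at h3
  exact hu.mul_right_eq_zero.mp h3

/-- Sections of the inverse image of `I` die on a scheme mapping into `V(I)`. -/
theorem app_eq_zero_of_mem {T Z X X' : Scheme.{u}} (I : X.IdealSheafData) (b : X' ⟶ X) (k : T ⟶ X')
    (b' : T ⟶ Z) (ι : Z ⟶ X) (hι : I ≤ ι.ker) (hk : k ≫ b = b' ≫ ι) (D : X'.affineOpens)
    {s : Γ(X', D.1)} (hs : s ∈ (I.comap b).ideal D) : k.app D.1 s = 0 := by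
  have h : I.comap b ≤ k.ker := by
    rw [← Scheme.IdealSheafData.le_map_iff_comap_le, Scheme.IdealSheafData.map_ker, hk]
    exact hι.trans (Scheme.Hom.le_ker_comp b' ι)
  exact RingHom.mem_ker.mp (Scheme.IdealSheafData.ideal_ofIdeals_le _ _ (h D hs))

end GrothLib.BlowAdm8
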